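import Groth.Prelude.Def_DRing3
import Groth.Prelude.Def_CohDer
import Groth.Agent.PerfGen7.CompactPerfect
import Groth.Agent.KFlatLib.Scheme.TildePerf
import Groth.Agent.QCoh.Tilde

/-!
# Perfect complexes over a ring are the compact objects of the derived category
-/

set_option linter.style.haveILetI false
set_option backward.isDefEq.respectTransparency false
set_option maxHeartbeats 1000000

universe u w v₁ v₂ u₁ u₂

open CategoryTheory CategoryTheory.Limits AlgebraicGeometry

attribute [local instance] HasDerivedCategory.standard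

namespace Groth.Agent.CompactD

open Groth.Agent.KFlatLib

section

variable {C : Type u₁} [Category.{v₁} C] [Preadditive C] {D : Type u₂} [Category.{v₂} D] [Preadditive D]
  (G : C ⥤ D) [G.Full] [G.Faithful] [G.PreservesZeroMorphisms] {J : Type w} (E : J → C) [HasCoproduct E]
  [HasCoproduct fun j => G.obj (E j)] [IsIso (sigmaComparison G E)]

theorem partProj_sigmaComparison (F : Finset J) :
    partProj (fun j => G.obj (E j)) F ≫ sigmaComparison G E = sigmaComparison G E ≫ G.map (partProj E F) := by
  refine Sigma.hom_ext _ _ fun i => ?_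
  by_cases h : i ∈ F
  · rw [← Category.assoc, ι_partProj_mem _ h, ι_comp_sigmaComparison, ← Category.assoc, ι_comp_sigmaComparison,
      ← G.map_comp, ι_partProj_mem _ h]
  · rw [← Category.assoc, ι_partProj_not_mem _ h, zero_comp, ← Category.assoc, ι_comp_sigmaComparison,
      ← G.map_comp, ι_partProj_not_mem _ h, G.map_zero]

/-- Finite supports are detected by a fully faithful functor commuting with the coproduct. -/
theorem fixAt_map_iff (K : C) : FixAt (fun j => G.obj (E j)) (G.obj K) ↔ FixAt E K := by
  constructor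
  · intro h φ
    obtain ⟨F, hF⟩ := h (G.map φ ≫ inv (sigmaComparison G E))
    refine ⟨F, G.map_injective ?_⟩
    have := hF =≫ sigmaComparison G E
    simpa [partProj_sigmaComparison] using this
  · intro h ψ
    obtain ⟨φ, hφ⟩ := G.map_surjective (ψ ≫ sigmaComparison G E)
    obtain ⟨F, hF⟩ := h φ
    refine ⟨F, (cancel_mono (sigmaComparison G E)).1 ?_⟩
    rw [Category.assoc, partProj_sigmaComparison, ← Category.assoc, ← hφ, ← G.map_comp, hF]

end

section

variable {D : Type*} [Category D] [Preadditive D] {J : Type w} {E : J → D} [HasCoproduct E]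

theorem fixAt_of_surjective {K : D} (h : Function.Surjective (CohDer.homSumToHomCoprod K E)) : FixAt E K := by
  classical
  intro φ
  obtain ⟨x, rfl⟩ := h φ
  induction x using DirectSum.induction_on with
  | zero => exact ⟨∅, by simp⟩
  | of i g =>
    refine ⟨{i}, ?_⟩
    simp [CohDer.homSumToHomCoprod, Preadditive.rightComp, ι_partProj_mem]
  | add a b ha hb =>
    obtain ⟨F, hF⟩ := ha
    obtain ⟨F', hF'⟩ := hb
    refine ⟨F ∪ F', ?_⟩
    rw [map_add, Preadditive.add_comp, fix_mono Finset.subset_union_left hF, fix_mono Finset.subset_union_right hF']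

end

variable (R : CommRingCat.{u})

theorem isIso_sigmaComparison_tildeD {J : Type u} (E : J → DerivedCategory (ModuleCat.{u} R)) [HasCoproduct E]
    [HasCoproduct fun j => (DCoh.tildeD R).obj (E j)] : IsIso (sigmaComparison (DCoh.tildeD R) E) := by
  let T : CochainComplex (ModuleCat.{u} R) ℤ ⥤ CochainComplex (Spec R).Modules ℤ :=
    (tilde.functor R).mapHomologicalComplex (ComplexShape.up ℤ)
  haveI : PreservesColimitsOfShape (Discrete J) T :=
    ⟨fun {K} => ⟨fun {c} hc => ⟨HomologicalComplex.isColimitOfEval _ _ fun n =>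
      isColimitOfPreserves (HomologicalComplex.eval (ModuleCat.{u} R) (ComplexShape.up ℤ) n ⋙
        tilde.functor R) hc⟩⟩⟩
  exact isIso_sigmaDesc (DCoh.tildeD R) T (tilde.functor R).mapDerivedCategoryFactors.hom (fun _ => True)
    (fun K _ => inferInstance) (fun _ _ => trivial) E
    fun j => ⟨_, trivial, ⟨DerivedCategory.Q.objObjPreimageIso _⟩⟩

instance : (DCoh.tildeD R).Full := ⟨fun f => (tildeD_map_bijective _ _).2 f⟩

instance : (DCoh.tildeD R).Faithful := ⟨fun h => (tildeD_map_bijective _ _).1 h⟩

/-- Perfect means compact in `D(R)`. -/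
theorem rPerf_iff_fixAt (K : DerivedCategory (ModuleCat.{u} R)) :
    RPerf K ↔ ∀ (J : Type u) (E : J → DerivedCategory (ModuleCat.{u} R)) [HasCoproduct E], FixAt E K := by
  haveI : ∀ J : Type u, HasColimitsOfShape (Discrete J) (DCoh.D (Spec R)) :=
    fun J => TriCat.hasColimitsOfShape_derivedCategory
  haveI : ∀ J : Type u, HasColimitsOfShape (Discrete J) (DerivedCategory (ModuleCat.{u} R)) :=
    fun J => TriCat.hasColimitsOfShape_derivedCategory
  rw [← perfect_tildeD_iff]
  refine ⟨fun h J E _ => ?_, fun h => ?_⟩
  · haveI := isIso_sigmaComparison_tildeD R E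
    exact (fixAt_map_iff (DCoh.tildeD R) E K).1
      (PerfGen7.fix_of_isPerfect_qcoh h _ fun j => isQCohD_tildeD R (E j)).at_zero
  · refine PerfGen7.isPerfect_of_compact isClosed_univ (by simp) ⟨isQCohD_tildeD R K, fun i => Set.subset_univ _⟩
      fun J M _ hM => ?_
    choose N e using fun j => exists_tildeD_iso (hM j).1
    haveI := isIso_sigmaComparison_tildeD R N
    exact FixAt.reindex (Equiv.refl J) (fun j => ((e j).some).symm)
      ((fixAt_map_iff (DCoh.tildeD R) N K).2 (h J N))

end Groth.Agent.CompactD
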